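import Mathlib
import Groth.Prelude.Def_DefoConn
import Groth.Prelude.Def_DefoSh2
import Groth.Agent.Lib.Helper5.SD.TwLin
import Groth.Agent.Lib.Lead.QC.BiprodSec
import Groth.Agent.Lib.Lead.QC.TensorDesc

set_option autoImplicit false
set_option linter.style.haveILetI false
universe u
open CategoryTheory CategoryTheory.Limits AlgebraicGeometry TopologicalSpace Opposite

namespace Groth.Agent.H5.DConn

open Groth.Agent.LD Groth.Agent.LD.QC Groth.Agent.H5.SD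

variable {k : Type u} [Field k] {X : Scheme.{u}} [X.Over (Spec (CommRingCat.of k))]
  {Ω' : X.Modules} (δ : OmegaSh.Der (X ↘ Spec (CommRingCat.of k)) Ω') {E : X.Modules}
  (nabla : Coh.toAb E ⟶ Coh.toAb (CohB1.tensorMod E Ω'))

/-- `φ ⊗ 1`. -/
noncomputable abbrev T {A B : X.Modules} (φ : A ⟶ B) :
    CohB1.tensorMod A Ω' ⟶ CohB1.tensorMod B Ω' := KoszTw.tensorMap φ (𝟙 Ω')

/-- underlying morphism of abelian sheaves. -/
noncomputable abbrev ab {A B : X.Modules} (φ : A ⟶ B) : Coh.toAb A ⟶ Coh.toAb B :=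
  (SheafOfModules.toSheaf X.ringCatSheaf).map φ

/-- the connection `∇ ⊕ ∇` on `E ⊞ E`. -/
noncomputable def conn2 : Coh.toAb (E ⊞ E) ⟶ Coh.toAb (CohB1.tensorMod (E ⊞ E) Ω') :=
  ab (biprod.fst : E ⊞ E ⟶ E) ≫ nabla ≫ ab (T (Ω' := Ω') (biprod.inl : E ⟶ E ⊞ E)) +
    ab (biprod.snd : E ⊞ E ⟶ E) ≫ nabla ≫ ab (T (Ω' := Ω') (biprod.inr : E ⟶ E ⊞ E))

theorem secApp_conn2 (U : X.Opens) (x : (E ⊞ E).val.obj (op U)) :
    ConnSh.secApp (conn2 nabla) U x =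
      (T (Ω' := Ω') (biprod.inl : E ⟶ E ⊞ E)).app U
          (ConnSh.secApp nabla U ((biprod.fst : E ⊞ E ⟶ E).app U x)) +
        (T (Ω' := Ω') (biprod.inr : E ⟶ E ⊞ E)).app U
          (ConnSh.secApp nabla U ((biprod.snd : E ⊞ E ⟶ E).app U x)) := rfl


theorem T_inl_fst : T (Ω' := Ω') (biprod.inl : E ⟶ E ⊞ E) ≫ T (biprod.fst : E ⊞ E ⟶ E) = 𝟙 _ := by
  have := KoszTw.tensorMap_comp (biprod.inl : E ⟶ E ⊞ E) (biprod.fst : E ⊞ E ⟶ E) (𝟙 Ω') (𝟙 Ω')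
  rw [Category.comp_id, biprod.inl_fst, KoszTw.tensorMap_id] at this
  exact this.symm

theorem T_inr_fst : T (Ω' := Ω') (biprod.inr : E ⟶ E ⊞ E) ≫ T (biprod.fst : E ⊞ E ⟶ E) = 0 := by
  have := KoszTw.tensorMap_comp (biprod.inr : E ⟶ E ⊞ E) (biprod.fst : E ⊞ E ⟶ E) (𝟙 Ω') (𝟙 Ω')
  rw [Category.comp_id, biprod.inr_fst] at this
  rw [← this]
  have h2 := tensorMap_add_left (X := X) Ω' (0 : E ⟶ E) (0 : E ⟶ E)
  rw [add_zero] at h2
  exact (add_eq_left.mp h2.symm)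

theorem isHorizontal_fst :
    ConnSh.IsHorizontal (conn2 nabla) nabla (biprod.fst : E ⊞ E ⟶ E) := by
  intro U x
  rw [secApp_conn2, map_add, ← comp_app', ← comp_app', T_inl_fst, T_inr_fst, id_app', zero_app',
    add_zero]

/-- `φ` on sections, typed in `val.obj`. -/
noncomputable def ap {A B : X.Modules} (φ : A ⟶ B) (U : X.Opens) (z : A.val.obj (op U)) :
    B.val.obj (op U) := φ.app U z

/-- `φ ⊗ 1` on sections, typed in `val.obj`. -/
noncomputable def Ts {A B : X.Modules} (φ : A ⟶ B) (U : X.Opens)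
    (z : (CohB1.tensorMod A Ω').val.obj (op U)) : (CohB1.tensorMod B Ω').val.obj (op U) :=
  (T (Ω' := Ω') φ).app U z

theorem ap_add {A B : X.Modules} (φ : A ⟶ B) (U : X.Opens) (z z' : A.val.obj (op U)) :
    ap φ U (z + z') = ap φ U z + ap φ U z' := map_add (φ.app U).hom z z'

theorem ap_smul {A B : X.Modules} (φ : A ⟶ B) (U : X.Opens) (t : Γ(X, U)) (z : A.val.obj (op U)) :
    ap φ U (t • z) = t • ap φ U z := Scheme.Modules.Hom.app_smul φ t z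

theorem Ts_add {A B : X.Modules} (φ : A ⟶ B) (U : X.Opens)
    (z z' : (CohB1.tensorMod A Ω').val.obj (op U)) :
    Ts φ U (z + z') = Ts φ U z + Ts φ U z' := map_add ((T (Ω' := Ω') φ).app U).hom z z'

theorem Ts_zero {A B : X.Modules} (φ : A ⟶ B) (U : X.Opens) :
    Ts (Ω' := Ω') φ U 0 = 0 := map_zero ((T (Ω' := Ω') φ).app U).hom

theorem Ts_smul {A B : X.Modules} (φ : A ⟶ B) (U : X.Opens) (t : Γ(X, U))
    (z : (CohB1.tensorMod A Ω').val.obj (op U)) :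
    Ts φ U (t • z) = t • Ts φ U z := Scheme.Modules.Hom.app_smul (T (Ω' := Ω') φ) t z

theorem Ts_tmul {A B : X.Modules} (φ : A ⟶ B) (U : X.Opens) (a : A.val.obj (op U))
    (ω : Ω'.val.obj (op U)) :
    Ts φ U (SecTwist.tmul A Ω' U a ω) = SecTwist.tmul B Ω' U (ap φ U a) ω := by
  have := KoszTw.tensorMap_tmul φ (𝟙 Ω') U a ω
  rw [id_app'] at this
  exact this

theorem secApp_conn2' (U : X.Opens) (x : (E ⊞ E).val.obj (op U)) :
    ConnSh.secApp (conn2 nabla) U x =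
      Ts (biprod.inl : E ⟶ E ⊞ E) U (ConnSh.secApp nabla U (ap (biprod.fst : E ⊞ E ⟶ E) U x)) +
        Ts (biprod.inr : E ⟶ E ⊞ E) U
          (ConnSh.secApp nabla U (ap (biprod.snd : E ⊞ E ⟶ E) U x)) := rfl

theorem isConn_conn2 (hn : ConnSh.IsConn δ E nabla) : ConnSh.IsConn δ (E ⊞ E) (conn2 nabla) := by
  intro U t x
  have h4 : SecTwist.tmul (E ⊞ E) Ω' U x (δ.app U t) =
      SecTwist.tmul (E ⊞ E) Ω' U
        (ap (biprod.inl : E ⟶ E ⊞ E) U (ap (biprod.fst : E ⊞ E ⟶ E) U x)) (δ.app U t) +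
      SecTwist.tmul (E ⊞ E) Ω' U
        (ap (biprod.inr : E ⟶ E ⊞ E) U (ap (biprod.snd : E ⊞ E ⟶ E) U x)) (δ.app U t) := by
    refine Eq.trans ?_ (tmul_add_left (E ⊞ E) Ω' U _ _ _)
    congr 1
    exact (bmk_eta E E U x).symm
  rw [secApp_conn2', secApp_conn2', ap_smul, ap_smul, hn U t, hn U t, Ts_add, Ts_add, Ts_smul,
    Ts_smul, Ts_tmul, Ts_tmul, h4, smul_add]
  abel

/-- the image of a constant in `Γ(X, U)`. -/
noncomputable def cst (a : k) (U : X.Opens) : Γ(X, U) :=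
  X.presheaf.map (homOfLE (le_top : U ≤ ⊤)).op (Coh.toGlobal (X ↘ Spec (CommRingCat.of k)) a)

include δ in
theorem der_cst (a : k) (U : X.Opens) : (δ.app U (cst a U) : Ω'.val.obj (op U)) = 0 := by
  have h1 : δ.d (X := op (⊤ : X.Opens)) (Coh.toGlobal (X ↘ Spec (CommRingCat.of k)) a) = 0 :=
    δ.d_app (X := op (⊤ : (Spec (CommRingCat.of k)).Opens))
      ((Scheme.ΓSpecIso (CommRingCat.of k)).inv.hom a)
  have h2 := δ.d_map (homOfLE (le_top : U ≤ ⊤)).op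
    (Coh.toGlobal (X ↘ Spec (CommRingCat.of k)) a)
  rw [h1, map_zero] at h2
  exact h2

theorem ap_smul_k {A B : X.Modules} (a : k) (φ : A ⟶ B) (U : X.Opens) (z : A.val.obj (op U)) :
    ap (a • φ) U z = cst a U • ap φ U z := KLin.smul_app_apply a φ U z

theorem Ts_smul_k {A B : X.Modules} (a : k) (φ : A ⟶ B) (U : X.Opens)
    (z : (CohB1.tensorMod A Ω').val.obj (op U)) :
    Ts (a • φ) U z = cst a U • Ts φ U z := by
  unfold Ts T
  rw [tensorMap_smul_left]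
  exact KLin.smul_app_apply (M := CohB1.tensorMod A Ω') (N := CohB1.tensorMod B Ω') a _ U z

theorem Ts_add_hom {A B : X.Modules} (φ ψ : A ⟶ B) (U : X.Opens)
    (z : (CohB1.tensorMod A Ω').val.obj (op U)) :
    Ts (φ + ψ) U z = Ts φ U z + Ts ψ U z := by
  unfold Ts T
  rw [tensorMap_add_left]
  rfl

theorem Ts_comp {A B C : X.Modules} (φ : A ⟶ B) (ψ : B ⟶ C) (U : X.Opens)
    (z : (CohB1.tensorMod A Ω').val.obj (op U)) :
    Ts (φ ≫ ψ) U z = Ts ψ U (Ts φ U z) := by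
  unfold Ts T
  have := KoszTw.tensorMap_comp φ ψ (𝟙 Ω') (𝟙 Ω')
  rw [Category.comp_id] at this
  rw [this]
  rfl

theorem Ts_id {A : X.Modules} (U : X.Opens) (z : (CohB1.tensorMod A Ω').val.obj (op U)) :
    Ts (𝟙 A) U z = z := by
  unfold Ts T
  rw [KoszTw.tensorMap_id]
  rfl

theorem Ts_fst_conn2 (U : X.Opens) (x : (E ⊞ E).val.obj (op U)) :
    Ts (biprod.fst : E ⊞ E ⟶ E) U (ConnSh.secApp (conn2 nabla) U x) =
      ConnSh.secApp nabla U (ap (biprod.fst : E ⊞ E ⟶ E) U x) :=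
  (isHorizontal_fst nabla U x).symm

theorem conn2_inr (U : X.Opens) (w : E.val.obj (op U)) :
    ConnSh.secApp (conn2 nabla) U (ap (biprod.inr : E ⟶ E ⊞ E) U w) =
      Ts (biprod.inr : E ⟶ E ⊞ E) U (ConnSh.secApp nabla U w) := by
  rw [secApp_conn2']
  have h1 : ap (biprod.fst : E ⊞ E ⟶ E) U (ap (biprod.inr : E ⟶ E ⊞ E) U w) = 0 := by
    have := congrArg (fun φ : E ⟶ E => φ.app U w) (biprod.inr_fst (X := E) (Y := E))
    exact this
  have h2 : ap (biprod.snd : E ⊞ E ⟶ E) U (ap (biprod.inr : E ⟶ E ⊞ E) U w) = w := by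
    have := congrArg (fun φ : E ⟶ E => φ.app U w) (biprod.inr_snd (X := E) (Y := E))
    exact this
  rw [h1, h2, map_zero, Ts_zero, zero_add]

include δ in
theorem isHorizontal_act (hn : ConnSh.IsConn δ E nabla) (a : DualNumber k) :
    ConnSh.IsHorizontal (conn2 nabla) (conn2 nabla)
      (DefoSh.dualAct k E a : E ⊞ E ⟶ E ⊞ E) := by
  intro U x
  rw [DefoSh.dualAct_hom]
  change ConnSh.secApp (conn2 nabla) U
      (ap (a.fst • 𝟙 (E ⊞ E) + a.snd • ((biprod.fst : E ⊞ E ⟶ E) ≫ biprod.inr)) U x) =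
    Ts (a.fst • 𝟙 (E ⊞ E) + a.snd • ((biprod.fst : E ⊞ E ⟶ E) ≫ biprod.inr)) U
      (ConnSh.secApp (conn2 nabla) U x)
  have hL : ap (a.fst • 𝟙 (E ⊞ E) + a.snd • ((biprod.fst : E ⊞ E ⟶ E) ≫ biprod.inr)) U x =
      cst a.fst U • x + cst a.snd U •
        ap (biprod.inr : E ⟶ E ⊞ E) U (ap (biprod.fst : E ⊞ E ⟶ E) U x) := by
    refine (add_app' _ _ U x).trans ?_
    exact congrArg₂ (· + ·) (ap_smul_k a.fst (𝟙 (E ⊞ E)) U x)
      (ap_smul_k a.snd ((biprod.fst : E ⊞ E ⟶ E) ≫ biprod.inr) U x)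
  have hc := isConn_conn2 δ nabla hn
  have hz : ∀ (c : k) (m : (E ⊞ E).val.obj (op U)),
      SecTwist.tmul (E ⊞ E) Ω' U m (δ.app U (cst c U)) = 0 := by
    intro c m
    rw [der_cst δ]
    exact tmul_zero_right (E ⊞ E) Ω' U m
  rw [hL, map_add, hc U, hc U, hz, hz, add_zero,
    add_zero, conn2_inr, Ts_add_hom, Ts_smul_k, Ts_smul_k, Ts_id, Ts_comp, Ts_fst_conn2]

end Groth.Agent.H5.DConn
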