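import Mathlib
import Groth.Prelude.Def_DefoConn
import Groth.Prelude.Def_DefoSh2
import Groth.Agent.Lib.Helper5.DConn.Main
import Groth.Agent.Lib.Lead.QC.Epi

/-!
# Linear morphisms of abelian sheaves between modules; horizontality as an equation (helper5)
-/

set_option autoImplicit false
set_option linter.style.haveILetI false
universe u
open CategoryTheory CategoryTheory.Limits AlgebraicGeometry TopologicalSpace Opposite

namespace Groth.Agent.H5.DConn

open Groth.Agent.LD Groth.Agent.LD.QC Groth.Agent.H5.SD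

variable {X : Scheme.{u}} {Ω' : X.Modules}

/-- an additive-sheaf morphism which is `O`-linear on sections comes from a module morphism. -/
noncomputable def homOfLinear {M N : X.Modules} (ψ : Coh.toAb M ⟶ Coh.toAb N)
    (h : ∀ (U : X.Opens) (t : Γ(X, U)) (e : M.val.obj (op U)),
      ConnSh.secApp ψ U (t • e) = t • ConnSh.secApp ψ U e) : M ⟶ N :=
  ⟨PresheafOfModules.homMk ψ.hom (fun U r m => h U.unop r m)⟩

theorem ab_homOfLinear {M N : X.Modules} (ψ : Coh.toAb M ⟶ Coh.toAb N)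
    (h : ∀ (U : X.Opens) (t : Γ(X, U)) (e : M.val.obj (op U)),
      ConnSh.secApp ψ U (t • e) = t • ConnSh.secApp ψ U e) :
    ab (homOfLinear ψ h) = ψ := by
  apply Sheaf.hom_ext
  ext U x
  rfl

theorem ab_ext {M N : X.Modules} (ψ ψ' : Coh.toAb M ⟶ Coh.toAb N)
    (h : ∀ (U : X.Opens) (e : M.val.obj (op U)), ConnSh.secApp ψ U e = ConnSh.secApp ψ' U e) :
    ψ = ψ' := by
  apply Sheaf.hom_ext
  ext U x
  exact h U.unop x

theorem secApp_ab {M N : X.Modules} (φ : M ⟶ N) (U : X.Opens) (e : M.val.obj (op U)) :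
    ConnSh.secApp (ab φ) U e = ap φ U e := rfl

theorem secApp_comp {M N P : X.Modules} (ψ : Coh.toAb M ⟶ Coh.toAb N) (χ : Coh.toAb N ⟶ Coh.toAb P)
    (U : X.Opens) (e : M.val.obj (op U)) :
    ConnSh.secApp (ψ ≫ χ) U e = ConnSh.secApp χ U (ConnSh.secApp ψ U e) := rfl

theorem secApp_add {M N : X.Modules} (ψ χ : Coh.toAb M ⟶ Coh.toAb N)
    (U : X.Opens) (e : M.val.obj (op U)) :
    ConnSh.secApp (ψ + χ) U e = ConnSh.secApp ψ U e + ConnSh.secApp χ U e := rfl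

theorem secApp_sub {M N : X.Modules} (ψ χ : Coh.toAb M ⟶ Coh.toAb N)
    (U : X.Opens) (e : M.val.obj (op U)) :
    ConnSh.secApp (ψ - χ) U e = ConnSh.secApp ψ U e - ConnSh.secApp χ U e := rfl

/-- horizontality as an equation of morphisms of abelian sheaves. -/
theorem isHorizontal_iff {E E' : X.Modules} (n : Coh.toAb E ⟶ Coh.toAb (CohB1.tensorMod E Ω'))
    (n' : Coh.toAb E' ⟶ Coh.toAb (CohB1.tensorMod E' Ω')) (φ : E ⟶ E') :
    ConnSh.IsHorizontal n n' φ ↔ ab φ ≫ n' = n ≫ ab (T (Ω' := Ω') φ) := by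
  constructor
  · intro h
    exact ab_ext _ _ (fun U e => h U e)
  · intro h U e
    exact congrArg (fun ψ => ConnSh.secApp ψ U e) h

instance epi_ab {M N : X.Modules} (φ : M ⟶ N) [Epi φ] : Epi (ab φ) :=
  @toSheaf_map_epi _ _ _ X.ringCatSheaf _ _ _ _ φ ‹_›

instance mono_ab {M N : X.Modules} (φ : M ⟶ N) [Mono φ] : Mono (ab φ) :=
  by
    haveI : PreservesFiniteLimits (SheafOfModules.toSheaf.{u} X.ringCatSheaf) := inferInstance
    haveI : (SheafOfModules.toSheaf.{u} X.ringCatSheaf).PreservesMonomorphisms :=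
      preservesMonomorphisms_of_preservesLimitsOfShape _
    exact @Functor.map_mono _ _ _ _ (SheafOfModules.toSheaf.{u} X.ringCatSheaf) _ _ _ φ ‹_›

theorem ab_comp {M N P : X.Modules} (φ : M ⟶ N) (ψ : N ⟶ P) : ab (φ ≫ ψ) = ab φ ≫ ab ψ :=
  (SheafOfModules.toSheaf X.ringCatSheaf).map_comp φ ψ

theorem ab_add {M N : X.Modules} (φ ψ : M ⟶ N) : ab (φ + ψ) = ab φ + ab ψ :=
  (SheafOfModules.toSheaf X.ringCatSheaf).map_add

theorem ab_sub {M N : X.Modules} (φ ψ : M ⟶ N) : ab (φ - ψ) = ab φ - ab ψ :=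
  (SheafOfModules.toSheaf X.ringCatSheaf).map_sub

theorem ab_zero {M N : X.Modules} : ab (0 : M ⟶ N) = 0 :=
  (SheafOfModules.toSheaf X.ringCatSheaf).map_zero M N

theorem ab_id {M : X.Modules} : ab (𝟙 M) = 𝟙 _ :=
  (SheafOfModules.toSheaf X.ringCatSheaf).map_id M

theorem ab_injective {M N : X.Modules} {φ ψ : M ⟶ N} (h : ab φ = ab ψ) : φ = ψ :=
  (SheafOfModules.toSheaf X.ringCatSheaf).map_injective h

theorem T_comp {A B C : X.Modules} (φ : A ⟶ B) (ψ : B ⟶ C) :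
    T (Ω' := Ω') (φ ≫ ψ) = T φ ≫ T ψ := by
  have := KoszTw.tensorMap_comp φ ψ (𝟙 Ω') (𝟙 Ω')
  rw [Category.comp_id] at this
  exact this

theorem T_id {A : X.Modules} : T (Ω' := Ω') (𝟙 A) = 𝟙 _ := KoszTw.tensorMap_id _ _

theorem T_add {A B : X.Modules} (φ ψ : A ⟶ B) : T (Ω' := Ω') (φ + ψ) = T φ + T ψ :=
  tensorMap_add_left Ω' φ ψ

theorem T_zero {A B : X.Modules} : T (Ω' := Ω') (0 : A ⟶ B) = 0 := by
  have h2 := T_add (Ω' := Ω') (0 : A ⟶ B) (0 : A ⟶ B)
  rw [add_zero] at h2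
  exact (add_eq_left.mp h2.symm)

theorem T_neg {A B : X.Modules} (φ : A ⟶ B) : T (Ω' := Ω') (-φ) = -T φ := by
  have h2 := T_add (Ω' := Ω') φ (-φ)
  rw [add_neg_cancel, T_zero] at h2
  exact (neg_eq_of_add_eq_zero_right h2.symm).symm

theorem T_sub {A B : X.Modules} (φ ψ : A ⟶ B) : T (Ω' := Ω') (φ - ψ) = T φ - T ψ := by
  rw [sub_eq_add_neg, T_add, T_neg, sub_eq_add_neg]

end Groth.Agent.H5.DConn
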