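import Mathlib
import Groth.Prelude.Def_DefoConn
import Groth.Prelude.Def_DefoSh2
import Groth.Agent.Lib.Helper5.DefoLoc.C
import Groth.Agent.Lib.Helper5.GG.TensExact
import Groth.Agent.Lib.Lead.QC.TwistEquiv
import Groth.Agent.Lib.Lead.QC.TwistExt
import Groth.Agent.Lib.Helper5.DConn.Main

/-!
# The short exact sequence `0 → E → D → E → 0` of a first-order deformation (helper5)
-/

set_option autoImplicit false
set_option linter.style.haveILetI false
universe u
open CategoryTheory CategoryTheory.Limits AlgebraicGeometry TopologicalSpace Opposite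

namespace Groth.Agent.H5.DConn

open Groth.Agent.LD Groth.Agent.LD.QC Groth.Agent.H5.DefoLoc Groth.Agent.H5.SD

/-- a morphism of modules which is injective on all stalks is a monomorphism. -/
theorem mono_of_injective_stalk {Y : Scheme.{u}} {M N : Y.Modules} (φ : M ⟶ N)
    (h : ∀ y : Y, Function.Injective (RefHull.stalkMapₗ φ y)) : Mono φ := by
  rw [Groth.Agent.H4.FlatPull1.mono_iff_stalk]
  intro x
  rw [ModuleCat.mono_iff_injective]
  exact h x

/-- a monomorphism of modules is injective on all stalks. -/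
theorem injective_stalk_of_mono {Y : Scheme.{u}} {M N : Y.Modules} (φ : M ⟶ N) [hφ : Mono φ]
    (y : Y) : Function.Injective (RefHull.stalkMapₗ φ y) := by
  have h := (Groth.Agent.H4.FlatPull1.mono_iff_stalk φ).mp hφ y
  rw [ModuleCat.mono_iff_injective] at h
  exact h

variable {k : Type u} [Field k] {X : Scheme.{u}} [X.Over (Spec (CommRingCat.of k))]
  {E : X.Modules} (D : DefoSh.Defo E (ArtFun.Art.dual k k)) (ι : E ⟶ D.sheaf)
  (hι : D.π ≫ ι = D.act (DualNumber.eps : DualNumber k))

instance epi_π : Epi D.π := epi_of_surjective_stalk D.π D.surj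

include hι in
theorem ι_comp_π : ι ≫ D.π = 0 := by
  have h : D.π ≫ (ι ≫ D.π) = D.π ≫ 0 := by
    rw [← Category.assoc, hι, comp_zero]
    exact epsD_comp_π D
  exact (cancel_epi D.π).mp h

include hι in
theorem ι_comp_eps : ι ≫ epsD D = 0 := by
  change ι ≫ D.act (DualNumber.eps : DualNumber k) = 0
  rw [← hι, ← Category.assoc, ι_comp_π D ι hι, zero_comp]

include hι in
theorem injective_ι (p : X) : Function.Injective (RefHull.stalkMapₗ ι p) := by
  rw [injective_iff_map_eq_zero]
  intro e he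
  obtain ⟨v, rfl⟩ := D.surj p e
  have h1 : RefHull.stalkMapₗ (epsD D) p v = 0 := by
    change RefHull.stalkMapₗ (D.act (DualNumber.eps : DualNumber k)) p v = 0
    rw [← hι, DefoSh.stalkMapₗ_comp_apply]
    exact he
  exact π_eq_zero_of_eps_eq_zero D p v h1

include hι in
theorem mono_ι : Mono ι := mono_of_injective_stalk ι (injective_ι D ι hι)

include hι in
theorem exact_ιπ : (ShortComplex.mk ι D.π (ι_comp_π D ι hι)).Exact := by
  rw [ShortComplex.exact_iff_epi_kernel_lift]
  apply epi_of_surjective_stalk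
  intro p z
  obtain ⟨w, hw⟩ := exists_eps_of_π_eq_zero D p (RefHull.stalkMapₗ (kernel.ι D.π) p z) (by
    rw [← DefoSh.stalkMapₗ_comp_apply, kernel.condition, DefoSh.stalkMapₗ_zero_apply])
  refine ⟨RefHull.stalkMapₗ D.π p w, ?_⟩
  apply injective_stalk_of_mono (kernel.ι D.π) p
  rw [hw, ← DefoSh.stalkMapₗ_comp_apply]
  change RefHull.stalkMapₗ (kernel.lift D.π ι (ι_comp_π D ι hι) ≫ kernel.ι D.π) p _ = _
  rw [kernel.lift_ι]
  change _ = RefHull.stalkMapₗ (D.act (DualNumber.eps : DualNumber k)) p w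
  rw [← hι, DefoSh.stalkMapₗ_comp_apply]

include hι in
theorem shortExact_ιπ : (ShortComplex.mk ι D.π (ι_comp_π D ι hι)).ShortExact :=
  haveI := mono_ι D ι hι
  ShortComplex.ShortExact.mk' (exact_ιπ D ι hι) ‹_› (epi_π D)

variable {Ω' : X.Modules}

include hι in
theorem T_ι_comp_T_π : T (Ω' := Ω') ι ≫ T D.π = 0 := by
  have := KoszTw.tensorMap_comp ι D.π (𝟙 Ω') (𝟙 Ω')
  rw [Category.comp_id, ι_comp_π D ι hι] at this
  rw [← this]
  have h2 := tensorMap_add_left (X := X) Ω' (0 : E ⟶ E) (0 : E ⟶ E)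
  rw [add_zero] at h2
  exact (add_eq_left.mp h2.symm)

include hι in
/-- the tensored sequence `0 → E ⊗ Ω' → D ⊗ Ω' → E ⊗ Ω' → 0` is short exact. -/
theorem shortExact_T (hE : FlatMod.IsFinLocFree E) :
    (ShortComplex.mk (T (Ω' := Ω') ι) (T D.π) (T_ι_comp_T_π D ι hι)).ShortExact := by
  have h := MS.shortExact_map_flip_of_flat (O := X.sheaf) _ (shortExact_ιπ D ι hι)
    (Groth.Agent.H5.GG.isFlat_of_isFinLocFree E hE) Ω'
  have e : (ShortComplex.mk ι D.π (ι_comp_π D ι hι)).map (twF Ω') ≅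
      ShortComplex.mk (T (Ω' := Ω') ι) (T D.π) (T_ι_comp_T_π D ι hι) :=
    ShortComplex.isoMk (Iso.refl _) (Iso.refl _) (Iso.refl _)
      (by
        change 𝟙 _ ≫ T (Ω' := Ω') ι = (twF Ω').map ι ≫ 𝟙 _
        rw [twF_map, Category.comp_id, Category.id_comp])
      (by
        change 𝟙 _ ≫ T (Ω' := Ω') D.π = (twF Ω').map D.π ≫ 𝟙 _
        rw [twF_map, Category.comp_id, Category.id_comp])
  exact ShortComplex.shortExact_of_iso e h

end Groth.Agent.H5.DConn
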