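import Mathlib
import Groth.Agent.Lib.Helper5.DConn.Seq
import Groth.Agent.Lib.Helper5.DConn.Lin

/-!
# Deformations of a connection over a fixed first-order deformation (helper5)
-/

set_option autoImplicit false
set_option linter.style.haveILetI false
universe u
open CategoryTheory CategoryTheory.Limits AlgebraicGeometry TopologicalSpace Opposite

namespace Groth.Agent.H5.DConn

open Groth.Agent.LD Groth.Agent.LD.QC Groth.Agent.H5.DefoLoc Groth.Agent.H5.SD

variable {k : Type u} [Field k] {X : Scheme.{u}} [X.Over (Spec (CommRingCat.of k))]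
  {Ω' : X.Modules} {δ : OmegaSh.Der (X ↘ Spec (CommRingCat.of k)) Ω'} {E : X.Modules}
  {nabla : Coh.toAb E ⟶ Coh.toAb (CohB1.tensorMod E Ω')}
  (D : DefoSh.Defo E (ArtFun.Art.dual k k)) (ι : E ⟶ D.sheaf)
  (hι : D.π ≫ ι = D.act (DualNumber.eps : DualNumber k))

/-- the action of `a = x + y ε` is `x • 𝟙 + y • ε`. -/
theorem act_eq (a : ArtFun.Art.dual k k) :
    D.act a = (TrivSqZeroExt.fst (a : DualNumber k)) • (𝟙 D.sheaf) +
      (TrivSqZeroExt.snd (a : DualNumber k)) • epsD D := by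
  rw [act_decomp D a, KLin.smul_id]
  rfl

theorem T_smul {A B : X.Modules} (a : k) (φ : A ⟶ B) : T (Ω' := Ω') (a • φ) = a • T φ :=
  tensorMap_smul_left k Ω' a φ

/-- a morphism commuting with `ε` and suitably killed commutes with the whole action. -/
theorem comm_act {N : X.Modules} (χ : D.sheaf ⟶ N) (ε' : N ⟶ N) (h : epsD D ≫ χ = χ ≫ ε')
    (a : ArtFun.Art.dual k k) :
    D.act a ≫ χ = χ ≫ ((TrivSqZeroExt.fst (a : DualNumber k)) • (𝟙 N) +
      (TrivSqZeroExt.snd (a : DualNumber k)) • ε') := by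
  rw [act_eq, Preadditive.add_comp, Preadditive.comp_add, Linear.smul_comp, Linear.smul_comp,
    Linear.comp_smul, Linear.comp_smul, Category.id_comp, Category.comp_id, h]

theorem T_act (a : ArtFun.Art.dual k k) :
    T (Ω' := Ω') (D.act a) = (TrivSqZeroExt.fst (a : DualNumber k)) • (𝟙 _) +
      (TrivSqZeroExt.snd (a : DualNumber k)) • T (epsD D) := by
  rw [act_eq, T_add, T_smul, T_smul, T_id]

section Factor

include hι

/-- factorisation: a map `D → N` killing ... factors through `π`. -/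
theorem ι_comp_eq_zero {N : X.Modules} (ψ : D.sheaf ⟶ N) (ε' : N ⟶ N)
    (h2 : epsD D ≫ ψ = ψ ≫ ε') (h3 : ψ ≫ ε' = 0) : ι ≫ ψ = 0 := by
  have h : D.π ≫ (ι ≫ ψ) = D.π ≫ 0 := by
    rw [← Category.assoc, hι, comp_zero]
    exact h2.trans h3
  exact (cancel_epi D.π).mp h

theorem T_eps_eq : T (Ω' := Ω') (epsD D) = T D.π ≫ T ι := by
  rw [← T_comp]
  change T (D.act (DualNumber.eps : DualNumber k)) = _
  rw [← hι]

theorem exists_factor (hE : FlatMod.IsFinLocFree E) (ψ : D.sheaf ⟶ CohB1.tensorMod D.sheaf Ω')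
    (h1 : ψ ≫ T D.π = 0) (h2 : epsD D ≫ ψ = ψ ≫ T (epsD D)) :
    ∃ φ : E ⟶ CohB1.tensorMod E Ω', ψ = D.π ≫ φ ≫ T ι := by
  have hS := shortExact_ιπ D ι hι
  have hT := shortExact_T (Ω' := Ω') D ι hι hE
  haveI := hS.epi_g
  haveI := hT.mono_f
  have h3 : ψ ≫ T (epsD D) = 0 := by
    rw [T_eps_eq D ι hι, ← Category.assoc, h1, zero_comp]
  have h4 : ι ≫ ψ = 0 := ι_comp_eq_zero D ι hι ψ _ h2 h3
  let ψ'' : E ⟶ CohB1.tensorMod D.sheaf Ω' := hS.exact.desc ψ h4
  have h5 : D.π ≫ ψ'' = ψ := hS.exact.g_desc ψ h4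
  have h6 : ψ'' ≫ T D.π = 0 := by
    have h : D.π ≫ (ψ'' ≫ T D.π) = D.π ≫ 0 := by
      rw [← Category.assoc, h5, comp_zero, h1]
    exact (cancel_epi D.π).mp h
  refine ⟨hT.exact.lift ψ'' h6, ?_⟩
  have h7 : hT.exact.lift ψ'' h6 ≫ T ι = ψ'' := hT.exact.lift_f ψ'' h6
  rw [h7, h5]

theorem factor_unique (hE : FlatMod.IsFinLocFree E) (φ φ' : E ⟶ CohB1.tensorMod E Ω')
    (h : D.π ≫ φ ≫ T ι = D.π ≫ φ' ≫ T ι) : φ = φ' := by
  have hT := shortExact_T (Ω' := Ω') D ι hι hE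
  haveI : Mono (T (Ω' := Ω') ι) := hT.mono_f
  have h1 := (cancel_epi D.π).mp h
  exact (cancel_mono (T (Ω' := Ω') ι)).mp h1

/-- the same for endomorphisms of `D`. -/
theorem exists_factor_end (χ : D.sheaf ⟶ D.sheaf)
    (h1 : χ ≫ D.π = 0) (h2 : epsD D ≫ χ = χ ≫ epsD D) :
    ∃ S : E ⟶ E, χ = D.π ≫ S ≫ ι := by
  have hS := shortExact_ιπ D ι hι
  haveI := hS.epi_g
  haveI := hS.mono_f
  have h3 : χ ≫ epsD D = 0 := by
    change χ ≫ D.act (DualNumber.eps : DualNumber k) = 0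
    rw [← hι, ← Category.assoc, h1, zero_comp]
  have h4 : ι ≫ χ = 0 := ι_comp_eq_zero D ι hι χ _ h2 h3
  let χ'' : E ⟶ D.sheaf := hS.exact.desc χ h4
  have h5 : D.π ≫ χ'' = χ := hS.exact.g_desc χ h4
  have h6 : χ'' ≫ D.π = 0 := by
    have h : D.π ≫ (χ'' ≫ D.π) = D.π ≫ 0 := by
      rw [← Category.assoc, h5, comp_zero, h1]
    exact (cancel_epi D.π).mp h
  refine ⟨hS.exact.lift χ'' h6, ?_⟩
  have h7 : hS.exact.lift χ'' h6 ≫ ι = χ'' := hS.exact.lift_f χ'' h6
  rw [h7, h5]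

end Factor

section Conn

theorem defoConn_ext (c c' : DefoSh.DefoConn δ nabla D) (h : c.conn = c'.conn) : c = c' := by
  cases c
  cases c'
  simp only at h
  subst h
  rfl

/-- the difference of two deformations of `∇`, as a morphism of modules. -/
noncomputable def diffHom (c c₀ : DefoSh.DefoConn δ nabla D) :
    D.sheaf ⟶ CohB1.tensorMod D.sheaf Ω' :=
  homOfLinear (c.conn - c₀.conn) (fun U t e => by
    rw [secApp_sub, secApp_sub, c.isConn U t e, c₀.isConn U t e, smul_sub]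
    abel)

theorem ab_diffHom (c c₀ : DefoSh.DefoConn δ nabla D) :
    ab (diffHom D c c₀) = c.conn - c₀.conn := ab_homOfLinear _ _

theorem diffHom_comp_Tπ (c c₀ : DefoSh.DefoConn δ nabla D) : diffHom D c c₀ ≫ T D.π = 0 := by
  apply ab_injective
  rw [ab_comp, ab_diffHom, ab_zero, Preadditive.sub_comp,
    ← (isHorizontal_iff c.conn nabla D.π).mp c.π_horizontal,
    ← (isHorizontal_iff c₀.conn nabla D.π).mp c₀.π_horizontal, sub_self]

theorem eps_comp_diffHom (c c₀ : DefoSh.DefoConn δ nabla D) :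
    epsD D ≫ diffHom D c c₀ = diffHom D c c₀ ≫ T (epsD D) := by
  apply ab_injective
  rw [ab_comp, ab_comp, ab_diffHom, Preadditive.comp_sub, Preadditive.sub_comp,
    (isHorizontal_iff c.conn c.conn (epsD D)).mp (c.act_horizontal _),
    (isHorizontal_iff c₀.conn c₀.conn (epsD D)).mp (c₀.act_horizontal _)]

include hι in
theorem eps_comp_χ (φ : E ⟶ CohB1.tensorMod E Ω') :
    epsD D ≫ (D.π ≫ φ ≫ T ι) = (D.π ≫ φ ≫ T ι) ≫ T (epsD D) := by
  rw [← Category.assoc, epsD_comp_π, zero_comp, Category.assoc, Category.assoc, ← T_comp,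
    ι_comp_eps D ι hι, T_zero, comp_zero, comp_zero]

include hι in
/-- the deformation of `∇` with given difference from `c₀`. -/
noncomputable def mkConn (c₀ : DefoSh.DefoConn δ nabla D) (φ : E ⟶ CohB1.tensorMod E Ω') :
    DefoSh.DefoConn δ nabla D where
  conn := c₀.conn + ab (D.π ≫ φ ≫ T ι)
  isConn := fun U t e => by
    rw [secApp_add, secApp_add, c₀.isConn U t e, secApp_ab, secApp_ab, ap_smul, smul_add]
    abel
  act_horizontal := fun a => by
    rw [isHorizontal_iff, Preadditive.comp_add, Preadditive.add_comp,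
      (isHorizontal_iff c₀.conn c₀.conn (D.act a)).mp (c₀.act_horizontal a), ← ab_comp, ← ab_comp,
      T_act, comm_act D (D.π ≫ φ ≫ T ι) (T (epsD D)) (eps_comp_χ D ι hι φ) a]
  π_horizontal := by
    rw [isHorizontal_iff, Preadditive.add_comp,
      ← (isHorizontal_iff c₀.conn nabla D.π).mp c₀.π_horizontal, ← ab_comp, Category.assoc,
      Category.assoc, T_ι_comp_T_π D ι hι, comp_zero, comp_zero, ab_zero, add_zero]

include hι in
theorem mkConn_conn (c₀ : DefoSh.DefoConn δ nabla D) (φ : E ⟶ CohB1.tensorMod E Ω') :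
    (mkConn D ι hι c₀ φ).conn = c₀.conn + ab (D.π ≫ φ ≫ T ι) := rfl

include hι in
theorem exists_equiv (hE : FlatMod.IsFinLocFree E) (c₀ : DefoSh.DefoConn δ nabla D) :
    ∃ Φ : DefoSh.DefoConn δ nabla D ≃ (E ⟶ CohB1.tensorMod E Ω'),
      ∀ c : DefoSh.DefoConn δ nabla D, c.conn - c₀.conn = ab (D.π ≫ Φ c ≫ T ι) := by
  have hf : ∀ c : DefoSh.DefoConn δ nabla D, ∃ φ : E ⟶ CohB1.tensorMod E Ω',
      diffHom D c c₀ = D.π ≫ φ ≫ T ι := fun c =>
    exists_factor D ι hι hE _ (diffHom_comp_Tπ D c c₀) (eps_comp_diffHom D c c₀)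
  choose F hF using hf
  refine ⟨⟨F, mkConn D ι hι c₀, ?_, ?_⟩, ?_⟩
  · intro c
    apply defoConn_ext
    rw [mkConn_conn, ← hF c, ab_diffHom]
    abel
  · intro φ
    apply factor_unique D ι hι hE
    rw [← hF]
    apply ab_injective
    rw [ab_diffHom, mkConn_conn]
    abel
  · intro c
    change c.conn - c₀.conn = ab (D.π ≫ F c ≫ T ι)
    rw [← hF c, ab_diffHom]

end Conn

end Groth.Agent.H5.DConn
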