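import Mathlib
import Groth.Agent.Lib.Helper5.DConn.Bij

/-!
# Transport equivalence of deformations of a connection (helper5)
-/

set_option autoImplicit false
set_option linter.style.haveILetI false
universe u
open CategoryTheory CategoryTheory.Limits AlgebraicGeometry TopologicalSpace Opposite

namespace Groth.Agent.H5.DConn

open Groth.Agent.LD Groth.Agent.LD.QC Groth.Agent.H5.DefoLoc Groth.Agent.H5.SD

variable {k : Type u} [Field k] {X : Scheme.{u}} [X.Over (Spec (CommRingCat.of k))]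
  {Ω' : X.Modules} {δ : OmegaSh.Der (X ↘ Spec (CommRingCat.of k)) Ω'} {E : X.Modules}
  {nabla : Coh.toAb E ⟶ Coh.toAb (CohB1.tensorMod E Ω')}
  (D : DefoSh.Defo E (ArtFun.Art.dual k k)) (ι : E ⟶ D.sheaf)
  (hι : D.π ≫ ι = D.act (DualNumber.eps : DualNumber k))

include hι

/-- `ι` is horizontal from `∇` to any deformation of `∇`. -/
theorem ι_horizontal (c : DefoSh.DefoConn δ nabla D) :
    ab ι ≫ c.conn = nabla ≫ ab (T (Ω' := Ω') ι) := by
  have h : ab D.π ≫ (ab ι ≫ c.conn) = ab D.π ≫ (nabla ≫ ab (T (Ω' := Ω') ι)) := by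
    rw [← Category.assoc, ← ab_comp, hι,
      (isHorizontal_iff c.conn c.conn (D.act (DualNumber.eps : DualNumber k))).mp
        (c.act_horizontal _), ← hι, T_comp, ab_comp, ← Category.assoc,
      ← (isHorizontal_iff c.conn nabla D.π).mp c.π_horizontal, Category.assoc]
  exact (cancel_epi (ab D.π)).mp h

theorem N_comp_N (S S' : E ⟶ E) : (D.π ≫ S ≫ ι) ≫ (D.π ≫ S' ≫ ι) = 0 := by
  simp only [Category.assoc]
  rw [← Category.assoc ι, ι_comp_π D ι hι, zero_comp, comp_zero, comp_zero]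

theorem eps_comp_N (S : E ⟶ E) : epsD D ≫ (D.π ≫ S ≫ ι) = (D.π ≫ S ≫ ι) ≫ epsD D := by
  rw [← Category.assoc, epsD_comp_π, zero_comp, Category.assoc, Category.assoc,
    ι_comp_eps D ι hι, comp_zero, comp_zero]

/-- the automorphism `1 + π S ι` of the deformation `D`. -/
noncomputable def autOf (S : E ⟶ E) : DefoSh.Defo.Iso D D where
  iso :=
    { hom := 𝟙 _ + D.π ≫ S ≫ ι
      inv := 𝟙 _ - D.π ≫ S ≫ ι
      hom_inv_id := by
        have h := N_comp_N D ι hι S S
        generalize D.π ≫ S ≫ ι = N at h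
        rw [Preadditive.add_comp, Preadditive.comp_sub, Preadditive.comp_sub, h]
        simp only [Category.id_comp, Category.comp_id]
        abel
      inv_hom_id := by
        have h := N_comp_N D ι hι S S
        generalize D.π ≫ S ≫ ι = N at h
        rw [Preadditive.sub_comp, Preadditive.comp_add, Preadditive.comp_add, h]
        simp only [Category.id_comp, Category.comp_id]
        abel }
  act_hom := fun a => by
    rw [Preadditive.comp_add, Preadditive.add_comp, Category.comp_id, Category.id_comp,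
      comm_act D (D.π ≫ S ≫ ι) (epsD D) (eps_comp_N D ι hι S) a, ← act_eq]
  hom_π := by
    rw [Preadditive.add_comp, Category.id_comp, Category.assoc, Category.assoc,
      ι_comp_π D ι hι, comp_zero, comp_zero, add_zero]

theorem autOf_hom (S : E ⟶ E) : (autOf D ι hι S).iso.hom = 𝟙 _ + D.π ≫ S ≫ ι := rfl

/-- every automorphism of `D` is of the form `1 + π S ι`. -/
theorem exists_eq_autOf (e : DefoSh.Defo.Iso D D) :
    ∃ S : E ⟶ E, e.iso.hom = 𝟙 _ + D.π ≫ S ≫ ι := by
  obtain ⟨S, hS⟩ := exists_factor_end D ι hι (e.iso.hom - 𝟙 _)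
    (by rw [Preadditive.sub_comp, e.hom_π, Category.id_comp, sub_self])
    (by
      rw [Preadditive.comp_sub, Preadditive.sub_comp, Category.comp_id, Category.id_comp]
      congr 1
      exact e.act_hom _)
  exact ⟨S, by rw [← hS]; abel⟩

/-- the horizontality defect of `1 + π S ι`. -/
theorem horiz_calc (c c' : DefoSh.DefoConn δ nabla D) (S : E ⟶ E) :
    ab (𝟙 _ + D.π ≫ S ≫ ι) ≫ c'.conn - c.conn ≫ ab (T (Ω' := Ω') (𝟙 _ + D.π ≫ S ≫ ι)) =
      (c'.conn - c.conn) - ab D.π ≫ (nabla ≫ ab (T (Ω' := Ω') S) - ab S ≫ nabla) ≫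
        ab (T (Ω' := Ω') ι) := by
  have h1 : ab (D.π ≫ S ≫ ι) ≫ c'.conn = ab D.π ≫ (ab S ≫ nabla) ≫ ab (T (Ω' := Ω') ι) := by
    rw [ab_comp, ab_comp, Category.assoc, Category.assoc, ι_horizontal D ι hι c', Category.assoc]
  have h2 : c.conn ≫ ab (T (Ω' := Ω') (D.π ≫ S ≫ ι)) =
      ab D.π ≫ (nabla ≫ ab (T (Ω' := Ω') S)) ≫ ab (T (Ω' := Ω') ι) := by
    rw [T_comp, T_comp, ab_comp, ab_comp, ← Category.assoc,
      ← (isHorizontal_iff c.conn nabla D.π).mp c.π_horizontal, Category.assoc, Category.assoc]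
  rw [ab_add, ab_id, T_add, T_id, ab_add, ab_id, Preadditive.add_comp, Preadditive.comp_add,
    Category.id_comp, Category.comp_id, h1, h2, Preadditive.sub_comp, Preadditive.comp_sub]
  abel

theorem transport_iff (c c' : DefoSh.DefoConn δ nabla D) :
    DefoSh.DefoConn.Transport c c' ↔ ∃ S : E ⟶ E,
      c'.conn - c.conn = ab D.π ≫ (nabla ≫ ab (T (Ω' := Ω') S) - ab S ≫ nabla) ≫
        ab (T (Ω' := Ω') ι) := by
  constructor
  · rintro ⟨e, he⟩
    obtain ⟨S, hS⟩ := exists_eq_autOf D ι hι e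
    refine ⟨S, ?_⟩
    have h := (isHorizontal_iff c.conn c'.conn e.iso.hom).mp he
    rw [hS] at h
    have h2 := horiz_calc D ι hι c c' S
    rw [h, sub_self] at h2
    exact (sub_eq_zero.mp h2.symm)
  · rintro ⟨S, hS⟩
    refine ⟨autOf D ι hι S, ?_⟩
    rw [isHorizontal_iff, autOf_hom]
    have h2 := horiz_calc D ι hι c c' S
    rw [hS, sub_self] at h2
    exact sub_eq_zero.mp h2

end Groth.Agent.H5.DConn
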